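import Mathlib.AlgebraicGeometry.Sites.Fpqc
import Mathlib.AlgebraicGeometry.PullbackCarrier
import Mathlib.AlgebraicGeometry.Morphisms.Flat
import Mathlib.AlgebraicGeometry.ResidueField
import Mathlib.LinearAlgebra.TensorProduct.Basis
import Mathlib.FieldTheory.IsAlgClosed.AlgebraicClosure
import Mathlib.RingTheory.TensorProduct.Free

/-! Descending a morphism to the intersection of two fields of definition. -/

set_option autoImplicit false
set_option maxHeartbeats 1000000

universe u

open CategoryTheory CategoryTheory.Limits AlgebraicGeometry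
open scoped TensorProduct

namespace Groth.EssDimQuot

section Ring

variable {M L N Ω : Type u} [Field M] [Field L] [Field N] [Field Ω] [Algebra M L] [Algebra M N]
  [Algebra M Ω] {A : Type u} [CommRing A] [Algebra M A]

/-- An element defined over two fields is defined over the intersection. -/
theorem exists_descend_elt (iL : L →ₐ[M] Ω) (iN : N →ₐ[M] Ω)
    (hinter : ∀ l n, iL l = iN n → ∃ m, algebraMap M L m = l) (t : A ⊗[M] L) (t' : A ⊗[M] N)
    (h : Algebra.TensorProduct.map (AlgHom.id M A) iL t = Algebra.TensorProduct.map (AlgHom.id M A) iN t') :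
    ∃ a : A, a ⊗ₜ[M] (1 : L) = t := by
  classical
  let b := Module.Free.chooseBasis M A
  have nat : ∀ {F : Type u} [Field F] [Algebra M F] (f : F →ₐ[M] Ω) (x : A ⊗[M] F) i,
      f (TensorProduct.equivFinsuppOfBasisLeft b x i) =
        TensorProduct.equivFinsuppOfBasisLeft b (Algebra.TensorProduct.map (AlgHom.id M A) f x) i := by
    intro F _ _ f x i
    induction x using TensorProduct.induction_on with
    | zero => simp
    | tmul c x => simp [TensorProduct.equivFinsuppOfBasisLeft_apply_tmul_apply]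
    | add x y hx hy => simp only [map_add, Finsupp.add_apply, hx, hy]
  have hc : ∀ i, ∃ m, algebraMap M L m = TensorProduct.equivFinsuppOfBasisLeft b t i := fun i =>
    hinter _ (TensorProduct.equivFinsuppOfBasisLeft b t' i) (by rw [nat, nat, h])
  choose m hm using hc
  refine ⟨∑ i ∈ (TensorProduct.equivFinsuppOfBasisLeft b t).support, m i • b i, ?_⟩
  apply (TensorProduct.equivFinsuppOfBasisLeft (N := L) b).injective
  refine Finsupp.ext fun j => ?_
  rw [TensorProduct.equivFinsuppOfBasisLeft_apply_tmul_apply]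
  by_cases hj : j ∈ (TensorProduct.equivFinsuppOfBasisLeft b t).support
  · simp [Finsupp.single_apply, hj, ← hm j, Algebra.algebraMap_eq_smul_one]
  · simp [Finsupp.single_apply, hj, Finsupp.notMem_support_iff.mp hj]

end Ring

theorem toTensor_comp {M F : Type u} [Field M] [Field F] [Algebra M F] {A : Type u} [CommRing A]
    [Algebra M A] :
    Spec.map (CommRingCat.ofHom (Algebra.TensorProduct.includeLeftRingHom : A →+* A ⊗[M] F)) ≫
        Spec.map (CommRingCat.ofHom (algebraMap M A)) =
      Spec.map (CommRingCat.ofHom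
          ((Algebra.TensorProduct.includeRight : F →ₐ[M] A ⊗[M] F) : F →+* A ⊗[M] F)) ≫
        Spec.map (CommRingCat.ofHom (algebraMap M F)) := by
  rw [← Spec.map_comp, ← Spec.map_comp]
  congr 1
  ext x
  exact ((Algebra.TensorProduct.includeRight : F →ₐ[M] A ⊗[M] F).commutes x).symm

variable {M L N Ω : Type u} [Field M] [Field L] [Field N] [Field Ω] [Algebra M L] [Algebra M N]
  [Algebra M Ω] (iL : L →ₐ[M] Ω) (iN : N →ₐ[M] Ω)
  (hinter : ∀ l n, iL l = iN n → ∃ m, algebraMap M L m = l)
  (hext : ∀ (Ω' : Type u) [Field Ω'] [IsAlgClosed Ω'] [Algebra M Ω'] (a : L →ₐ[M] Ω')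
    (b : N →ₐ[M] Ω'), ∃ c : Ω →ₐ[M] Ω', (∀ z, c (iL z) = a z) ∧ ∀ z, c (iN z) = b z)
  {P PL PN PΩ X : Scheme.{u}} {π : P ⟶ Spec (CommRingCat.of M)}
  {qL : PL ⟶ P} {pL : PL ⟶ Spec (CommRingCat.of L)}
  (hL : IsPullback qL pL π (Spec.map (CommRingCat.ofHom (algebraMap M L))))
  {qN : PN ⟶ P} {pN : PN ⟶ Spec (CommRingCat.of N)}
  (hN : IsPullback qN pN π (Spec.map (CommRingCat.ofHom (algebraMap M N))))
  {qΩ : PΩ ⟶ P} {pΩ : PΩ ⟶ Spec (CommRingCat.of Ω)}
  (hΩ : IsPullback qΩ pΩ π (Spec.map (CommRingCat.ofHom (algebraMap M Ω))))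
  {rL : PΩ ⟶ PL} (hrL : rL ≫ qL = qΩ)
  (hrL' : rL ≫ pL = pΩ ≫ Spec.map (CommRingCat.ofHom (iL : L →+* Ω)))
  {rN : PΩ ⟶ PN} (hrN : rN ≫ qN = qΩ)
  (hrN' : rN ≫ pN = pΩ ≫ Spec.map (CommRingCat.ofHom (iN : N →+* Ω)))
  (fL : PL ⟶ X) (fN : PN ⟶ X) (hagree : rL ≫ fL = rN ≫ fN)

theorem spec_compat (f : L →+* Ω) (hf : f.comp (algebraMap M L) = algebraMap M Ω) :
    Spec.map (CommRingCat.ofHom f) ≫ Spec.map (CommRingCat.ofHom (algebraMap M L)) =
      Spec.map (CommRingCat.ofHom (algebraMap M Ω)) := by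
  rw [← Spec.map_comp, ← CommRingCat.ofHom_comp, hf]

include hext hL hN hΩ hrL hrL' hrN hrN' hagree in
/-- The two morphisms agree on points with a common image. -/
theorem apply_eq {w : PL} {x : PN} (h : qL w = qN x) : fL w = fN x := by
  obtain ⟨t, htw, htx⟩ := Scheme.Pullback.exists_preimage_pullback w x h
  let Ω' := AlgebraicClosure ((pullback qL qN).residueField t)
  let s : Spec (CommRingCat.of Ω') ⟶ pullback qL qN :=
    Spec.map (CommRingCat.ofHom (algebraMap ((pullback qL qN).residueField t) Ω')) ≫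
      (pullback qL qN).fromSpecResidueField t
  let sL := s ≫ pullback.fst qL qN
  let sN := s ≫ pullback.snd qL qN
  have hs : sL ≫ qL = sN ≫ qN := by simp only [sL, sN, Category.assoc, pullback.condition]
  let φa : CommRingCat.of L ⟶ CommRingCat.of Ω' := Spec.preimage (sL ≫ pL)
  let φb : CommRingCat.of N ⟶ CommRingCat.of Ω' := Spec.preimage (sN ≫ pN)
  let : Algebra M Ω' := (φa.hom.comp (algebraMap M L)).toAlgebra
  have hab : CommRingCat.ofHom (algebraMap M N) ≫ φb = CommRingCat.ofHom (algebraMap M Ω') := by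
    apply Spec.map_injective
    rw [Spec.map_comp, Spec.map_preimage, show CommRingCat.ofHom (algebraMap M Ω') =
      CommRingCat.ofHom (algebraMap M L) ≫ φa from rfl, Spec.map_comp, Spec.map_preimage]
    have hh : sL ≫ qL ≫ π = sN ≫ qN ≫ π := by rw [← Category.assoc, hs, Category.assoc]
    rw [hL.w, hN.w] at hh
    exact (Category.assoc _ _ _).trans (hh.symm.trans (Category.assoc _ _ _).symm)
  let a : L →ₐ[M] Ω' := { φa.hom with commutes' := fun _ => rfl }
  let b : N →ₐ[M] Ω' := { φb.hom with commutes' := fun m => congrArg (fun ψ => ψ.hom m) hab }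
  obtain ⟨c, hca, hcb⟩ := hext Ω' a b
  have hc : (sL ≫ qL) ≫ π =
      Spec.map (CommRingCat.ofHom (c : Ω →+* Ω')) ≫ Spec.map (CommRingCat.ofHom (algebraMap M Ω)) := by
    rw [← Spec.map_comp, ← CommRingCat.ofHom_comp, c.comp_algebraMap,
      show CommRingCat.ofHom (algebraMap M Ω') = CommRingCat.ofHom (algebraMap M L) ≫ φa from rfl,
      Spec.map_comp, Spec.map_preimage]
    exact (Category.assoc _ _ _).trans ((congrArg (sL ≫ ·) hL.w).trans (Category.assoc _ _ _).symm)
  let sΩ := hΩ.lift (sL ≫ qL) (Spec.map (CommRingCat.ofHom (c : Ω →+* Ω'))) hc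
  have e1 : sΩ ≫ rL = sL := hL.hom_ext (by rw [Category.assoc, hrL, hΩ.lift_fst]) (by
    rw [Category.assoc, hrL', hΩ.lift_snd_assoc, ← Spec.map_comp, ← CommRingCat.ofHom_comp,
      show (c : Ω →+* Ω').comp (iL : L →+* Ω) = φa.hom from RingHom.ext hca,
      CommRingCat.ofHom_hom, Spec.map_preimage])
  have e2 : sΩ ≫ rN = sN := hN.hom_ext (by rw [Category.assoc, hrN, hΩ.lift_fst, hs]) (by
    rw [Category.assoc, hrN', hΩ.lift_snd_assoc, ← Spec.map_comp, ← CommRingCat.ofHom_comp,
      show (c : Ω →+* Ω').comp (iN : N →+* Ω) = φb.hom from RingHom.ext hcb,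
      CommRingCat.ofHom_hom, Spec.map_preimage])
  have e : sL ≫ fL = sN ≫ fN := by rw [← e1, ← e2, Category.assoc, Category.assoc, hagree]
  have hpt : ∀ z : Spec (CommRingCat.of Ω'), s z = t := fun z => by
    simp only [s, Scheme.Hom.comp_apply]
    exact Scheme.fromSpecResidueField_apply _ _
  have := congrArg (fun f => f (IsLocalRing.closedPoint Ω')) e
  simpa only [sL, sN, Scheme.Hom.comp_apply, hpt, htw, htx] using this

omit iL iN hinter hext hN hΩ hrL hrL' hrN hrN' fN hagree in
include hL in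
/-- Lifts into `P_L` over an affine piece factor through `A ⊗ L`. -/
theorem lift_fac {A : CommRingCat.{u}} [Algebra M A] (w : Spec A ⟶ P)
    (hwπ : Spec.map (CommRingCat.ofHom (algebraMap M A)) = w ≫ π)
    (jL : Spec (CommRingCat.of (A ⊗[M] L)) ⟶ PL)
    (hj1 : jL ≫ qL = Spec.map (CommRingCat.ofHom
      (Algebra.TensorProduct.includeLeftRingHom : A →+* A ⊗[M] L)) ≫ w)
    (hj2 : jL ≫ pL = Spec.map (CommRingCat.ofHom
      ((Algebra.TensorProduct.includeRight : L →ₐ[M] A ⊗[M] L) : L →+* A ⊗[M] L)))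
    (g : Spec A ⟶ X)
    (hg : jL ≫ fL = Spec.map (CommRingCat.ofHom
      (Algebra.TensorProduct.includeLeftRingHom : A →+* A ⊗[M] L)) ≫ g)
    {Z : Scheme.{u}} (a : Z ⟶ Spec A) (d : Z ⟶ PL) (hd : d ≫ qL = a ≫ w) :
    d ≫ fL = a ≫ g := by
  have hcond : a ≫ Spec.map (CommRingCat.ofHom (algebraMap M A)) =
      (d ≫ pL) ≫ Spec.map (CommRingCat.ofHom (algebraMap M L)) := by
    rw [hwπ, ← Category.assoc, ← hd, Category.assoc, hL.w, Category.assoc]
  obtain ⟨l, hl1, hl2⟩ : ∃ l : Z ⟶ Spec (CommRingCat.of (A ⊗[M] L)),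
      l ≫ Spec.map (CommRingCat.ofHom
        (Algebra.TensorProduct.includeLeftRingHom : A →+* A ⊗[M] L)) = a ∧
      l ≫ Spec.map (CommRingCat.ofHom
        ((Algebra.TensorProduct.includeRight : L →ₐ[M] A ⊗[M] L) : L →+* A ⊗[M] L)) = d ≫ pL := by
    refine ⟨pullback.lift a (d ≫ pL) hcond ≫ (pullbackSpecIso M A L).hom, ?_, ?_⟩
    · rw [Category.assoc, pullbackSpecIso_hom_fst, pullback.lift_fst]
    · exact (Category.assoc _ _ _).trans
        ((congrArg (pullback.lift a (d ≫ pL) hcond ≫ ·) (pullbackSpecIso_hom_snd M A L)).trans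
          (pullback.lift_snd _ _ _))
  have hld : l ≫ jL = d := by
    apply hL.hom_ext
    · rw [Category.assoc, hj1, ← Category.assoc, hl1, hd]
    · rw [Category.assoc, hj2, hl2]
  rw [← hld, Category.assoc, hg, ← Category.assoc, hl1]

include hinter hext hL hN hΩ hrL hrL' hrN hrN' hagree in
/-- A morphism defined over two fields is defined over their intersection. -/
theorem exists_descend : ∃ g : P ⟶ X, qL ≫ g = fL := by
  classical
  have : Flat (Spec.map (CommRingCat.ofHom (algebraMap M L))) :=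
    (HasRingHomProperty.Spec_iff (P := @Flat)).mpr (RingHom.flat_algebraMap_iff.mpr inferInstance)
  have : Surjective (Spec.map (CommRingCat.ofHom (algebraMap M L))) :=
    ⟨fun z => ⟨IsLocalRing.closedPoint L, Subsingleton.elim (α := ↥(Spec (CommRingCat.of M))) _ _⟩⟩
  have : Surjective (Spec.map (CommRingCat.ofHom (algebraMap M N))) :=
    ⟨fun z => ⟨IsLocalRing.closedPoint N, Subsingleton.elim (α := ↥(Spec (CommRingCat.of M))) _ _⟩⟩
  have : Flat qL := MorphismProperty.of_isPullback hL.flip inferInstance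
  have : Surjective qL := MorphismProperty.of_isPullback hL.flip inferInstance
  have : QuasiCompact qL := MorphismProperty.of_isPullback hL.flip inferInstance
  have : Surjective qN := MorphismProperty.of_isPullback hN.flip inferInstance
  have key : ∀ {w : PL} {x : PN}, qL w = qN x → fL w = fN x :=
    apply_eq iL iN hext hL hN hΩ hrL hrL' hrN hrN' fL fN hagree
  have key' : ∀ {w w' : PL}, qL w = qL w' → fL w = fL w' := fun {w w'} h => by
    obtain ⟨x, hx⟩ := qN.surjective (qL w)
    rw [key hx.symm, key (h.symm.trans hx.symm)]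
  -- affine pieces
  have hpiece : ∀ z : P, ∃ (A : CommRingCat.{u}) (w : Spec A ⟶ P), IsOpenImmersion w ∧ z ∈ Set.range w ∧
      ∀ {Z : Scheme.{u}} (a : Z ⟶ Spec A) (d d' : Z ⟶ PL), d ≫ qL = a ≫ w → d' ≫ qL = a ≫ w →
        d ≫ fL = d' ≫ fL := by
    intro z
    obtain ⟨y, hy⟩ := qL.surjective z
    obtain ⟨V, hV, hVy, -⟩ := exists_isAffineOpen_mem_and_subset (x := fL y) (U := ⊤) trivial
    have hUopen : IsOpen (qL '' (fL ⁻¹' (V : Set X))) := by
      rw [← (Flat.isQuotientMap_of_surjective qL).isOpen_preimage]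
      have : qL ⁻¹' (qL '' (fL ⁻¹' (V : Set X))) = fL ⁻¹' (V : Set X) := by
        refine Set.Subset.antisymm ?_ (Set.subset_preimage_image _ _)
        rintro w ⟨w', hw', he⟩
        show fL w ∈ (V : Set X)
        rw [key' he.symm]
        exact hw'
      rw [this]
      exact V.2.preimage fL.continuous
    obtain ⟨W, hW, hzW, hWU⟩ := exists_isAffineOpen_mem_and_subset (x := z)
      (U := ⟨_, hUopen⟩) ⟨y, hVy, hy⟩
    let A := Γ(P, W)
    let w : Spec A ⟶ P := hW.fromSpec
    have hrange : Set.range w = (W : Set P) := hW.range_fromSpec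
    have hwV : ∀ {x : Spec A} {v : PL}, qL v = w x → fL v ∈ (V : Set X) := by
      intro x v hv
      obtain ⟨v', hv', he⟩ := hWU (hrange ▸ ⟨x, rfl⟩ : w x ∈ (W : Set P))
      rw [key' (hv.trans he.symm)]
      exact hv'
    refine ⟨A, w, inferInstance, hrange ▸ hzW, ?_⟩
    let : Algebra M A := (Spec.preimage (w ≫ π)).hom.toAlgebra
    have hwπ : Spec.map (CommRingCat.ofHom (algebraMap M A)) = w ≫ π := Spec.map_preimage _
    let jL := hL.lift (Spec.map (CommRingCat.ofHom
        (Algebra.TensorProduct.includeLeftRingHom : A →+* A ⊗[M] L)) ≫ w)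
      (Spec.map (CommRingCat.ofHom
        ((Algebra.TensorProduct.includeRight : L →ₐ[M] A ⊗[M] L) : L →+* A ⊗[M] L)))
      (by rw [Category.assoc, ← hwπ, toTensor_comp])
    let jN := hN.lift (Spec.map (CommRingCat.ofHom
        (Algebra.TensorProduct.includeLeftRingHom : A →+* A ⊗[M] N)) ≫ w)
      (Spec.map (CommRingCat.ofHom
        ((Algebra.TensorProduct.includeRight : N →ₐ[M] A ⊗[M] N) : N →+* A ⊗[M] N)))
      (by rw [Category.assoc, ← hwπ, toTensor_comp])
    let jΩ := hΩ.lift (Spec.map (CommRingCat.ofHom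
        (Algebra.TensorProduct.includeLeftRingHom : A →+* A ⊗[M] Ω)) ≫ w)
      (Spec.map (CommRingCat.ofHom
        ((Algebra.TensorProduct.includeRight : Ω →ₐ[M] A ⊗[M] Ω) : Ω →+* A ⊗[M] Ω)))
      (by rw [Category.assoc, ← hwπ, toTensor_comp])
    have hjL : Set.range (jL ≫ fL) ⊆ (V : Set X) := by
      rintro _ ⟨x, rfl⟩
      rw [Scheme.Hom.comp_apply]
      refine hwV (x := Spec.map (CommRingCat.ofHom
        (Algebra.TensorProduct.includeLeftRingHom : A →+* A ⊗[M] L)) x) ?_
      rw [← Scheme.Hom.comp_apply, hL.lift_fst, Scheme.Hom.comp_apply]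
    have hjN : Set.range (jN ≫ fN) ⊆ (V : Set X) := by
      rintro _ ⟨x, rfl⟩
      obtain ⟨v, hv⟩ := qL.surjective (qN (jN x))
      rw [Scheme.Hom.comp_apply, ← key hv]
      refine hwV (x := Spec.map (CommRingCat.ofHom
        (Algebra.TensorProduct.includeLeftRingHom : A →+* A ⊗[M] N)) x) ?_
      rw [hv, ← Scheme.Hom.comp_apply, hN.lift_fst, Scheme.Hom.comp_apply]
    let gL := IsOpenImmersion.lift hV.fromSpec (jL ≫ fL) (by rw [hV.range_fromSpec]; exact hjL)
    let gN := IsOpenImmersion.lift hV.fromSpec (jN ≫ fN) (by rw [hV.range_fromSpec]; exact hjN)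
    let mL := Algebra.TensorProduct.map (AlgHom.id M A) iL
    let mN := Algebra.TensorProduct.map (AlgHom.id M A) iN
    have hmL : jΩ ≫ rL = Spec.map (CommRingCat.ofHom mL.toRingHom) ≫ jL := by
      apply hL.hom_ext
      · rw [Category.assoc, Category.assoc, hrL, hΩ.lift_fst, hL.lift_fst, ← Category.assoc,
          ← Spec.map_comp]
        congr 2
        ext x
        simp [mL]
      · rw [Category.assoc, Category.assoc, hrL', hΩ.lift_snd_assoc, hL.lift_snd, ← Spec.map_comp,
          ← Spec.map_comp]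
        congr 1
    have hmN : jΩ ≫ rN = Spec.map (CommRingCat.ofHom mN.toRingHom) ≫ jN := by
      apply hN.hom_ext
      · rw [Category.assoc, Category.assoc, hrN, hΩ.lift_fst, hN.lift_fst, ← Category.assoc,
          ← Spec.map_comp]
        congr 2
        ext x
        simp [mN]
      · rw [Category.assoc, Category.assoc, hrN', hΩ.lift_snd_assoc, hN.lift_snd, ← Spec.map_comp,
          ← Spec.map_comp]
        congr 1
    have hg : Spec.map (CommRingCat.ofHom mL.toRingHom) ≫ gL =
        Spec.map (CommRingCat.ofHom mN.toRingHom) ≫ gN := by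
      rw [← cancel_mono hV.fromSpec, Category.assoc, Category.assoc, IsOpenImmersion.lift_fac,
        IsOpenImmersion.lift_fac, ← reassoc_of% hmL, ← reassoc_of% hmN, hagree]
    obtain ⟨ψL, hψL⟩ := Spec.map_surjective gL
    obtain ⟨ψN, hψN⟩ := Spec.map_surjective gN
    rw [← hψL, ← hψN, ← Spec.map_comp, ← Spec.map_comp] at hg
    have hg' := Spec.map_injective hg
    have hdesc : ∀ x, ∃ a : A, a ⊗ₜ[M] (1 : L) = ψL.hom x := fun x =>
      exists_descend_elt iL iN hinter _ (ψN.hom x) (congrArg (fun f => f.hom x) hg')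
    have hinj : Function.Injective (Algebra.TensorProduct.includeLeftRingHom : A →+* A ⊗[M] L) :=
      Algebra.TensorProduct.includeLeft_injective (S := M) (algebraMap M L).injective
    choose ψ hψ using hdesc
    let ψ' : Γ(X, V) →+* A :=
      { toFun := ψ
        map_one' := hinj (by rw [map_one]; exact (hψ 1).trans (map_one _))
        map_mul' := fun x y => hinj (by
          rw [map_mul]
          exact (hψ _).trans ((map_mul _ _ _).trans (by rw [← hψ, ← hψ]; rfl)))
        map_zero' := hinj (by rw [map_zero]; exact (hψ 0).trans (map_zero _))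
        map_add' := fun x y => hinj (by
          rw [map_add]
          exact (hψ _).trans ((map_add _ _ _).trans (by rw [← hψ, ← hψ]; rfl))) }
    have hψeq : CommRingCat.ofHom ψ' ≫ CommRingCat.ofHom
        (Algebra.TensorProduct.includeLeftRingHom : A →+* A ⊗[M] L) = ψL := by
      ext x
      exact hψ x
    have hjLf : jL ≫ fL = Spec.map (CommRingCat.ofHom
        (Algebra.TensorProduct.includeLeftRingHom : A →+* A ⊗[M] L)) ≫
          Spec.map (CommRingCat.ofHom ψ') ≫ hV.fromSpec := by
      rw [← Category.assoc, ← Spec.map_comp, hψeq, hψL, IsOpenImmersion.lift_fac]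
    intro Z a d d' hd hd'
    rw [lift_fac hL fL w hwπ jL (hL.lift_fst _ _ _) (hL.lift_snd _ _ _) _ hjLf a d hd,
      lift_fac hL fL w hwπ jL (hL.lift_fst _ _ _) (hL.lift_snd _ _ _) _ hjLf a d' hd']
  choose A w hw hzw hsame using hpiece
  let 𝒰 : P.OpenCover :=
    { I₀ := P
      X := fun z => Spec (A z)
      f := w
      mem₀ := by
        rw [Scheme.presieve₀_mem_precoverage_iff]
        exact ⟨fun z => ⟨z, hzw z⟩, hw⟩ }
  refine ⟨EffectiveEpi.desc qL fL fun {Z} d d' hdd => ?_, EffectiveEpi.fac qL fL _⟩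
  refine Scheme.Cover.hom_ext (𝒰.pullback₁ (d ≫ qL)) _ _ fun z => ?_
  simp only [Precoverage.ZeroHypercover.pullback₁_toPreZeroHypercover, PreZeroHypercover.pullback₁_f,
    ← Category.assoc]
  exact hsame z (pullback.snd (d ≫ qL) (w z)) _ _
    ((Category.assoc _ _ _).trans pullback.condition)
    ((Category.assoc _ _ _).trans ((congrArg (pullback.fst (d ≫ qL) (w z) ≫ ·) hdd.symm).trans
      pullback.condition))

end Groth.EssDimQuot
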