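import Mathlib.FieldTheory.IsAlgClosed.AlgebraicClosure
import Mathlib.FieldTheory.AlgebraicClosure
import Mathlib.FieldTheory.SeparableClosure
import Mathlib.FieldTheory.PrimitiveElement
import Mathlib.FieldTheory.PurelyInseparable.PerfectClosure
import Mathlib.FieldTheory.Minpoly.IsIntegrallyClosed
import Mathlib.RingTheory.AlgebraicIndependent.TranscendenceBasis
import Mathlib.RingTheory.TensorProduct.Maps
import Mathlib.LinearAlgebra.TensorProduct.Finiteness

/-! Field lemmas for descending morphisms of torsors. -/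

set_option autoImplicit false
set_option maxHeartbeats 800000

universe u

open scoped TensorProduct

namespace Groth.EssDimQuot

open Polynomial

/-- A split monic polynomial with all roots in a subfield has its coefficients there. -/
theorem coeff_mem_of_roots_mem {Ω : Type u} [Field Ω] [IsAlgClosed Ω] {F : Subfield Ω} {p : Ω[X]}
    (hp : p.Monic) (h : ∀ r ∈ p.roots, r ∈ F) (n : ℕ) : p.coeff n ∈ F := by
  have hprod := (IsAlgClosed.splits p).eq_prod_roots_of_monic hp
  have key : ∀ s : Multiset Ω, (∀ r ∈ s, r ∈ F) →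
      ∀ n, (s.map fun a => X - C a).prod.coeff n ∈ F := by
    intro s
    induction s using Multiset.induction_on with
    | empty =>
      intro _ n
      simp only [Multiset.map_zero, Multiset.prod_zero, coeff_one]
      split_ifs
      · exact one_mem F
      · exact zero_mem F
    | cons a s ih =>
      intro hs n
      rw [Multiset.map_cons, Multiset.prod_cons, sub_mul, coeff_sub, coeff_C_mul]
      have ih' := ih fun r hr => hs r (Multiset.mem_cons_of_mem hr)
      refine sub_mem ?_ (mul_mem (hs a (Multiset.mem_cons_self a s)) (ih' n))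
      rcases n with _ | n
      · rw [coeff_X_mul_zero]; exact zero_mem F
      · rw [coeff_X_mul]; exact ih' n
  rw [hprod]
  exact key _ h n

section Amalgam

variable {M Ω Ω' : Type u} [Field M] [Field Ω] [Algebra M Ω] [IsAlgClosed Ω]
  [Field Ω'] [Algebra M Ω'] [IsAlgClosed Ω']
  (L : IntermediateField M Ω) [Algebra.IsAlgebraic L Ω]
  (hcl : ∀ z ∈ L, IsAlgebraic M z → z ∈ (⊥ : IntermediateField M Ω))

include hcl in
/-- Minimal polynomials over `M` stay irreducible over `L`. -/
theorem minpoly_map_eq {θ : Ω} (hθ : IsIntegral M θ) :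
    minpoly L θ = (minpoly M θ).map (algebraMap M L) := by
  set p := (minpoly L θ).map (algebraMap L Ω) with hp
  have hpL : IsIntegral L θ := hθ.tower_top
  have hmon : p.Monic := (minpoly.monic hpL).map _
  have hcoef : ∀ n, p.coeff n ∈ (algebraicClosure M Ω).toSubfield := by
    refine coeff_mem_of_roots_mem hmon fun r hr => ?_
    have hdvd : p ∣ (minpoly M θ).map (algebraMap M Ω) := by
      rw [IsScalarTower.algebraMap_eq M L Ω, ← Polynomial.map_map]
      exact Polynomial.map_dvd _ (minpoly.dvd L θ (by rw [aeval_map_algebraMap, minpoly.aeval]))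
    show r ∈ algebraicClosure M Ω
    rw [mem_algebraicClosure_iff]
    refine ⟨minpoly M θ, minpoly.ne_zero hθ, ?_⟩
    rw [aeval_def, ← eval_map]
    exact (Polynomial.mem_roots'.mp hr).2.dvd hdvd
  have hbot : ∀ n, ∃ m : M, algebraMap M L m = (minpoly L θ).coeff n := by
    intro n
    have h1 : ((minpoly L θ).coeff n : Ω) ∈ (⊥ : IntermediateField M Ω) := by
      refine hcl _ ((minpoly L θ).coeff n).2 ?_
      have := hcoef n
      rw [hp, coeff_map] at this
      exact mem_algebraicClosure_iff.mp this
    obtain ⟨m, hm⟩ := IntermediateField.mem_bot.mp h1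
    exact ⟨m, Subtype.ext hm⟩
  obtain ⟨g, hg, -, hgm⟩ := lifts_and_degree_eq_and_monic
    ((lifts_iff_coeff_lifts _).mpr hbot) (minpoly.monic hpL)
  have hgθ : aeval θ g = 0 := by
    rw [← aeval_map_algebraMap L, hg, minpoly.aeval]
  refine eq_of_monic_of_associated (minpoly.monic hpL) ((minpoly.monic hθ).map _)
    (associated_of_dvd_dvd (minpoly.dvd L θ (by rw [aeval_map_algebraMap, minpoly.aeval])) ?_)
  rw [← hg]
  exact Polynomial.map_dvd _ (minpoly.dvd M θ hgθ)

include hcl in
theorem exists_extend_finset (a : L →ₐ[M] Ω') (b : algebraicClosure M Ω →ₐ[M] Ω')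
    (s : Finset (algebraicClosure M Ω)) :
    ∃ c : Ω →ₐ[M] Ω', (∀ z : L, c z = a z) ∧ ∀ z ∈ s, c z = b z := by
  classical
  let : Algebra L Ω' := a.toRingHom.toAlgebra
  have : IsScalarTower M L Ω' := IsScalarTower.of_algebraMap_eq fun m => (a.commutes m).symm
  let E := IntermediateField.adjoin M (s : Set (algebraicClosure M Ω))
  have : FiniteDimensional M E := IntermediateField.finiteDimensional_adjoin fun x _ =>
    (Algebra.IsIntegral.isIntegral x)
  obtain ⟨θ, hθ⟩ := Field.exists_primitive_element M (separableClosure M E)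
  let θ' : Ω := ((θ : E) : algebraicClosure M Ω)
  have hint : IsIntegral M θ' :=
    (Algebra.IsIntegral.isIntegral θ).map
      ((algebraicClosure M Ω).val.comp (E.val.comp (separableClosure M E).val))
  have hroot : b (θ : E) ∈ (minpoly L θ').rootSet Ω' := by
    rw [minpoly_map_eq L hcl hint]
    refine Polynomial.mem_rootSet.mpr ⟨((minpoly.monic hint).map _).ne_zero, ?_⟩
    rw [aeval_map_algebraMap, aeval_algHom_apply]
    have : minpoly M θ' = minpoly M ((θ : E) : algebraicClosure M Ω) :=
      minpoly.algHom_eq (algebraicClosure M Ω).val Subtype.val_injective _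
    rw [this, minpoly.aeval, map_zero]
  rw [← Algebra.IsAlgebraic.range_eval_eq_rootSet_minpoly] at hroot
  obtain ⟨c, hc⟩ := hroot
  refine ⟨c.restrictScalars M, fun z => c.commutes z, ?_⟩
  let f₁ : E →ₐ[M] Ω' := ((c.restrictScalars M).comp (algebraicClosure M Ω).val).comp E.val
  let f₂ : E →ₐ[M] Ω' := b.comp E.val
  have hsep : ∀ x : separableClosure M E, f₁ x = f₂ x := by
    intro x
    have hx : x ∈ IntermediateField.adjoin M {θ} := hθ ▸ IntermediateField.mem_top
    have : Set.EqOn (f₁.comp (separableClosure M E).val) (f₂.comp (separableClosure M E).val)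
        (IntermediateField.adjoin M {θ} : IntermediateField M (separableClosure M E)) := by
      have hle : IntermediateField.adjoin M {θ} ≤
          ({ toSubalgebra := AlgHom.equalizer (f₁.comp (separableClosure M E).val)
              (f₂.comp (separableClosure M E).val)
             inv_mem' := fun y hy => by
              change _ = _ at hy
              change _ = _
              rw [map_inv₀, map_inv₀, hy] } : IntermediateField M (separableClosure M E)) := by
        rw [IntermediateField.adjoin_le_iff, Set.singleton_subset_iff]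
        exact hc
      exact fun y hy => hle hy
    exact this hx
  have hall : ∀ x : E, f₁ x = f₂ x := by
    intro x
    obtain ⟨q, hq⟩ : ∃ q, ExpChar M q := ⟨ringExpChar M, ringExpChar.expChar M⟩
    have : ExpChar (separableClosure M E) q := expChar_of_injective_algebraMap (algebraMap M _).injective q
    have : ExpChar Ω' q := expChar_of_injective_algebraMap (algebraMap M Ω').injective q
    obtain ⟨n, y, hy⟩ := IsPurelyInseparable.pow_mem (separableClosure M E) q x
    apply iterateFrobenius_inj Ω' q n
    simp only [iterateFrobenius_def, ← map_pow]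
    rw [← hy]
    exact hsep y
  exact fun z hz => hall ⟨z, IntermediateField.subset_adjoin M _ hz⟩

end Amalgam

section Compact

variable {M L N Ω Ω' : Type u} [Field M] [Field L] [Field N] [Field Ω] [Field Ω'] [IsAlgClosed Ω']
  [Algebra M L] [Algebra M N] [Algebra M Ω] [Algebra L Ω] [IsScalarTower M L Ω]
  [Algebra M Ω'] [Algebra.IsAlgebraic L Ω]

/-- Extensions agreeing on every finite set combine to one. -/
theorem exists_extend_of_finset (iN : N →ₐ[M] Ω) (a : L →ₐ[M] Ω') (b : N →ₐ[M] Ω')
    (h : ∀ s : Finset N, ∃ c : Ω →ₐ[M] Ω', (∀ z, c (algebraMap L Ω z) = a z) ∧ ∀ z ∈ s, c (iN z) = b z) :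
    ∃ c : Ω →ₐ[M] Ω', (∀ z, c (algebraMap L Ω z) = a z) ∧ ∀ z, c (iN z) = b z := by
  classical
  let := a.toRingHom.toAlgebra
  have : IsScalarTower M L Ω' := IsScalarTower.of_algebraMap_eq fun m => (a.commutes m).symm
  let μ : L ⊗[M] N →ₐ[L] Ω :=
    Algebra.TensorProduct.lift (Algebra.ofId L Ω) iN fun _ _ => Commute.all _ _
  let ν : L ⊗[M] N →ₐ[L] Ω' :=
    Algebra.TensorProduct.lift (Algebra.ofId L Ω') b fun _ _ => Commute.all _ _
  have hker : ∀ t, μ t = 0 → ν t = 0 := by
    intro t ht
    obtain ⟨S, rfl⟩ := TensorProduct.exists_finset t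
    obtain ⟨c, hcL, hcN⟩ := h (S.image Prod.snd)
    have hv : ν (∑ i ∈ S, i.1 ⊗ₜ i.2) = c (μ (∑ i ∈ S, i.1 ⊗ₜ i.2)) := by
      simp only [map_sum]
      refine Finset.sum_congr rfl fun i hi => ?_
      simp only [μ, ν, Algebra.TensorProduct.lift_tmul, Algebra.ofId_apply, map_mul]
      rw [hcN _ (Finset.mem_image_of_mem _ hi), hcL]
      rfl
    rw [hv, ht, map_zero]
  let : Field μ.range := μ.range.isField_of_algebraic.toField
  let ψ : μ.range →ₐ[L] Ω' :=
    AlgHom.liftOfSurjective μ.rangeRestrict μ.rangeRestrict_surjective ν fun t ht =>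
      RingHom.mem_ker.mpr (hker t (congrArg Subtype.val (RingHom.mem_ker.mp ht)))
  let := ψ.toRingHom.toAlgebra
  have : IsScalarTower L μ.range Ω := IsScalarTower.of_algebraMap_eq fun _ => rfl
  have : Algebra.IsAlgebraic μ.range Ω := Algebra.IsAlgebraic.tower_top (K := L) μ.range
  let c : Ω →ₐ[μ.range] Ω' := IsAlgClosed.lift
  have hc : ∀ t, c (μ t) = ν t := fun t =>
    (c.commutes (μ.rangeRestrict t)).trans (AlgHom.liftOfSurjective_apply _ _ _ _ t)
  have hcL : ∀ z : L, c (algebraMap L Ω z) = a z := fun z => by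
    have := hc (z ⊗ₜ 1)
    simp only [μ, ν, Algebra.TensorProduct.lift_tmul, map_one, mul_one] at this
    exact this
  refine ⟨{ c.toRingHom with commutes' := fun m => ?_ }, hcL, fun z => ?_⟩
  · show c (algebraMap M Ω m) = _
    rw [← a.commutes m, IsScalarTower.algebraMap_apply M L Ω]
    exact hcL (algebraMap M L m)
  · show c (iN z) = b z
    have := hc (1 ⊗ₜ z)
    simp only [μ, ν, Algebra.TensorProduct.lift_tmul, map_one, one_mul] at this
    exact this

end Compact

section Main

variable {M Ω Ω' : Type u} [Field M] [Field Ω] [Algebra M Ω] [IsAlgClosed Ω]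
  [Field Ω'] [Algebra M Ω'] [IsAlgClosed Ω']
  (L : IntermediateField M Ω) [Algebra.IsAlgebraic L Ω]
  (hcl : ∀ z ∈ L, IsAlgebraic M z → z ∈ (⊥ : IntermediateField M Ω))

include hcl in
/-- Any two compatible embeddings come from a single one. -/
theorem exists_extend (a : L →ₐ[M] Ω') (b : algebraicClosure M Ω →ₐ[M] Ω') :
    ∃ c : Ω →ₐ[M] Ω', (∀ z : L, c z = a z) ∧ ∀ z : algebraicClosure M Ω, c z = b z :=
  exists_extend_of_finset (algebraicClosure M Ω).val a b fun s => exists_extend_finset L hcl a b s

end Main


end Groth.EssDimQuot
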