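import Groth.Agent.EssDimQuot.Quot

/-! The essential dimension of an object of a quotient stack. -/

set_option autoImplicit false
set_option backward.isDefEq.respectTransparency false
set_option backward.isDefEq.respectTransparency.types false
set_option maxHeartbeats 1000000
set_option synthInstance.maxHeartbeats 200000

universe u

open CategoryTheory CategoryTheory.Limits AlgebraicGeometry
open MonoidalCategory CartesianMonoidalCategory MonObj

noncomputable section

namespace Groth.EssDimQuot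

variable {k : Type u} [Field k] {G X : Over (Spec (CommRingCat.of k))} [GrpObj G]
  (aX : AlgGrp.Action G X) [LocallyOfFiniteType X.hom]
  [FibCat.IsFibGrpd (AlgSt.QuotSt Scheme.fppfPrecoverage G aX).p]
  [FibCat.IsFibGrpd (AlgSt.BG Scheme.fppfPrecoverage G).p]

theorem edStAt_quot_le (L : Type u) [Field L] [Algebra k L]
    (x : StkCnt.pts (AlgSt.QuotSt Scheme.fppfPrecoverage G aX) L) :
    (EssDim.edStAt (AlgSt.QuotSt Scheme.fppfPrecoverage G aX) x : WithBot ℕ∞) ≤
      EssDim.edSt (AlgSt.BG Scheme.fppfPrecoverage G) + topologicalKrullDim (X.left : Type u) := by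
  obtain ⟨⟨base, P, act, π, cart, loc, φ, eqv⟩, hb⟩ := x
  change base = _ at hb
  subst hb
  let B : StkCnt.pts (AlgSt.BG Scheme.fppfPrecoverage G) L :=
    ⟨⟨_, P, act, π, cart, loc, toUnit P, toUnit_unique _ _⟩, rfl⟩
  let ξ : EssDim.FPt (Gerb.isoClPsh (AlgSt.BG Scheme.fppfPrecoverage G)) L :=
    Quot.mk (Gerb.IsoRel (AlgSt.BG Scheme.fppfPrecoverage G) (SGA7.pt (K := k) L)) B
  have : Nonempty {K : IntermediateField k L // EssDim.Descends _ ξ K} :=
    ⟨⟨⊤, EssDim.descends_top ξ⟩⟩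
  obtain ⟨⟨K, hK⟩, hmin⟩ := ciInf_mem
    fun K : {K : IntermediateField k L // EssDim.Descends _ ξ K} =>
      Cardinal.toENat (Algebra.trdeg k K.1)
  replace hmin : Cardinal.toENat (Algebra.trdeg k K) = EssDim.edAt _ ξ := hmin
  obtain ⟨⟨x₀, hx₀⟩, f, hf⟩ := (EssDim.descends_isoCl_iff _ B K).1 hK
  obtain ⟨base₀, P₀, act₀, π₀, cart₀, loc₀, φ₀, eqv₀⟩ := x₀
  change base₀ = _ at hx₀
  subst hx₀
  have hfb : f.base = EssDim.resPt (K := K) (L := L) K.val :=
    (@IsHomLift.eq_of_isHomLift _ _ _ _ (AlgSt.BG Scheme.fppfPrecoverage G).p _ _ _ f hf).symm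
  have htc : IsPullback f.top π π₀ (EssDim.resPt (K := K) (L := L) K.val) := hfb ▸ f.cart
  obtain ⟨M, hKM, hbound, hdesc⟩ := exists_descend_equivariant aX act π cart.w φ eqv K act₀ π₀
    cart₀ loc₀ f.top f.eqv htc
  let X₀ : (AlgSt.BG Scheme.fppfPrecoverage G).obj :=
    ⟨_, P₀, act₀, π₀, cart₀, loc₀, φ₀, eqv₀⟩
  obtain ⟨A₁, ψ, hψ⟩ := FibCat.IsFibGrpd.exists_lift (p := (AlgSt.BG Scheme.fppfPrecoverage G).p)
    (x := X₀) (EssDim.resPt (IntermediateField.inclusion hKM))
  have hbase : A₁.base = SGA7.pt (K := k) M :=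
    @IsHomLift.domain_eq _ _ _ _ (AlgSt.BG Scheme.fppfPrecoverage G).p _ _ _ _ _ ψ hψ
  obtain ⟨base₁, P₁, act₁, π₁, cart₁, loc₁, φ₁, eqv₁⟩ := A₁
  change base₁ = _ at hbase
  subst hbase
  have hψb : ψ.base = EssDim.resPt (IntermediateField.inclusion hKM) :=
    (@IsHomLift.eq_of_isHomLift _ _ _ _ (AlgSt.BG Scheme.fppfPrecoverage G).p _ _ _ ψ hψ).symm
  have hu₁ : IsPullback ψ.top π₁ π₀ (EssDim.resPt (IntermediateField.inclusion hKM)) := hψb ▸ ψ.cart
  have hcomp : EssDim.resPt (K := M) (L := L) M.val ≫ EssDim.resPt (IntermediateField.inclusion hKM) =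
      EssDim.resPt (K := K) (L := L) K.val := resPt_comp' _ _ _ fun _ => rfl
  let t₁ : P ⟶ P₁ := hu₁.lift f.top (π ≫ EssDim.resPt M.val) (by
    rw [Category.assoc, hcomp]; exact htc.w)
  have htu : t₁ ≫ ψ.top = f.top := hu₁.lift_fst _ _ _
  have htπ : t₁ ≫ π₁ = π ≫ EssDim.resPt M.val := hu₁.lift_snd _ _ _
  have ht₁ : IsPullback t₁ π π₁ (EssDim.resPt (K := M) (L := L) M.val) :=
    IsPullback.of_right (by rw [htu, hcomp]; exact htc) htπ hu₁
  have heqv₁ : act.act ≫ t₁ = (G ◁ t₁) ≫ act₁.act := by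
    apply hu₁.hom_ext
    · rw [Category.assoc, htu, Category.assoc, show act₁.act ≫ ψ.top = (G ◁ ψ.top) ≫ act₀.act from ψ.eqv,
        ← MonoidalCategory.whiskerLeft_comp_assoc, htu]
      exact f.eqv
    · rw [Category.assoc, htπ, Category.assoc, cart₁.w, whiskerLeft_snd_assoc, htπ,
        reassoc_of% cart.w]
  obtain ⟨g, hg⟩ := hdesc P₁ act₁ π₁ cart₁ ψ.top hu₁ t₁ heqv₁ ht₁ htu
  have : Epi (G ◁ t₁) := by
    have hb : IsPullback t₁.left π.left π₁.left (Spec.map (CommRingCat.ofHom (M.val : M →+* L))) :=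
      ht₁.map (Over.forget _)
    have : Flat (Spec.map (CommRingCat.ofHom (M.val : M →+* L))) :=
      (HasRingHomProperty.Spec_iff (P := @Flat)).mpr (show RingHom.Flat (algebraMap M L) from
        RingHom.flat_algebraMap_iff.mpr (inferInstanceAs (Module.Flat M L)))
    have : Surjective (Spec.map (CommRingCat.ofHom (M.val : M →+* L))) :=
      ⟨fun z => ⟨IsLocalRing.closedPoint L, Subsingleton.elim (α := ↥(Spec (CommRingCat.of M))) _ _⟩⟩
    have : IsAffineHom (Spec.map (CommRingCat.ofHom (M.val : M →+* L))) := isAffineHom_of_isAffine _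
    have : Flat t₁.left := MorphismProperty.of_isPullback hb.flip inferInstance
    have : Surjective t₁.left := MorphismProperty.of_isPullback hb.flip inferInstance
    have : QuasiCompact t₁.left := MorphismProperty.of_isPullback hb.flip inferInstance
    have hw := (AlgSt.isPullback_whiskerLeft (G := G) t₁).map (Over.forget (Spec (CommRingCat.of k)))
    have : Flat (G ◁ t₁).left := MorphismProperty.of_isPullback hw.flip (by assumption)
    have : Surjective (G ◁ t₁).left := MorphismProperty.of_isPullback hw.flip (by assumption)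
    have : QuasiCompact (G ◁ t₁).left := MorphismProperty.of_isPullback hw.flip (by assumption)
    exact Over.epi_of_epi_left (G ◁ t₁)
  let A : (AlgSt.QuotSt Scheme.fppfPrecoverage G aX).obj :=
    ⟨_, P₁, act₁, π₁, cart₁, loc₁, g, by
      rw [← cancel_epi (G ◁ t₁), ← Category.assoc, ← heqv₁, Category.assoc, hg, eqv,
        ← MonoidalCategory.whiskerLeft_comp_assoc, hg]⟩
  let h : (⟨_, P, act, π, cart, loc, φ, eqv⟩ : (AlgSt.QuotSt Scheme.fppfPrecoverage G aX).obj) ⟶ A :=
    ⟨EssDim.resPt M.val, t₁, heqv₁, ht₁, hg⟩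
  have hdes : EssDim.Descends (Gerb.isoClPsh (AlgSt.QuotSt Scheme.fppfPrecoverage G aX))
      (Quot.mk (Gerb.IsoRel (AlgSt.QuotSt Scheme.fppfPrecoverage G aX) (SGA7.pt (K := k) L))
        ⟨⟨_, P, act, π, cart, loc, φ, eqv⟩, rfl⟩) M :=
    (EssDim.descends_isoCl_iff _ _ M).2 ⟨⟨A, rfl⟩, h,
      inferInstanceAs ((AlgSt.QuotSt Scheme.fppfPrecoverage G aX).p.IsHomLift
        ((AlgSt.QuotSt Scheme.fppfPrecoverage G aX).p.map h) h)⟩
  refine (WithBot.coe_le_coe.2 (EssDim.edAt_le_of_descends hdes)).trans (hbound.trans ?_)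
  rw [hmin]
  exact add_le_add (EssDim.edAt_le_ed _) le_rfl

end Groth.EssDimQuot
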