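import Groth.Agent.EssDimQuot.Fields
import Groth.Agent.EssDimQuot.Descend
import Groth.Agent.EssDimH.Descent
import Groth.Prelude.Def_EssDim
import Groth.Prelude.Def_AlgSt5
import Mathlib.AlgebraicGeometry.AlgClosed.Basic

/-! Descending an equivariant map out of a torsor over a field. -/

set_option autoImplicit false
set_option backward.isDefEq.respectTransparency false
set_option backward.isDefEq.respectTransparency.types false
set_option maxHeartbeats 1000000
set_option synthInstance.maxHeartbeats 200000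

universe u

open CategoryTheory CategoryTheory.Limits AlgebraicGeometry
open MonoidalCategory CartesianMonoidalCategory MonObj

noncomputable section

namespace Groth.EssDimQuot

variable {k : Type u} [Field k]


theorem mem_of_isAlgebraic {F Ω : Type u} [Field F] [Field Ω] [Algebra F Ω]
    (N : IntermediateField F Ω) [IsAlgClosed N] {z : Ω} (hz : IsAlgebraic N z) : z ∈ N := by
  have h1 := IsAlgClosed.degree_eq_one_of_irreducible N (minpoly.irreducible hz.isIntegral)
  obtain ⟨n, rfl⟩ := minpoly.natDegree_eq_one_iff.mp (Polynomial.natDegree_eq_of_degree_eq_some h1)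
  exact n.2

theorem resPt_comp' {A B C : Type u} [Field A] [Algebra k A] [Field B] [Algebra k B] [Field C] [Algebra k C]
    (f : A →ₐ[k] B) (g : B →ₐ[k] C) (h : A →ₐ[k] C) (e : ∀ a, g (f a) = h a) :
    EssDim.resPt g ≫ EssDim.resPt f = EssDim.resPt h := by
  rw [← EssDim.resPt_comp, show g.comp f = h from AlgHom.ext e]

/-- A point which factors through a subfield has its residue field there. -/
theorem range_le_of_factor {X : Scheme.{u}} {Ω N : Type u} [Field Ω] [Field N] {x : X}
    (ρ : X.residueField x →+* Ω) (ν : N →+* Ω) (h : Spec (CommRingCat.of N) ⟶ X)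
    (e : Spec.map (CommRingCat.ofHom ρ) ≫ X.fromSpecResidueField x =
      Spec.map (CommRingCat.ofHom ν) ≫ h) :
    ∃ ρ' : X.residueField x →+* N, ν.comp ρ' = ρ := by
  obtain ⟨⟨x', ρ'⟩, rfl⟩ := (Scheme.SpecToEquivOfField N X).symm.surjective h
  obtain rfl : x = x' := by
    have h1 := congrArg (fun f => f (IsLocalRing.closedPoint Ω)) e
    simp only [Scheme.SpecToEquivOfField, Equiv.coe_fn_symm_mk, Scheme.Hom.comp_apply] at h1
    exact (Scheme.fromSpecResidueField_apply _ _).symm.trans
      (h1.trans (Scheme.fromSpecResidueField_apply _ _))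
  refine ⟨ρ'.hom, ?_⟩
  have h2 : Spec.map (CommRingCat.ofHom ρ) = Spec.map (ρ' ≫ CommRingCat.ofHom ν) := by
    rw [← cancel_mono (X.fromSpecResidueField x), e, Spec.map_comp, Category.assoc]
    rfl
  exact (congrArg CommRingCat.Hom.hom (Spec.map_injective h2)).symm

variable {G X : Over (Spec (CommRingCat.of k))} [GrpObj G] (aX : AlgGrp.Action G X)
variable {L : Type u} [Field L] [Algebra k L]

theorem exists_descend_equivariant [LocallyOfFiniteType X.hom]
    {P P₀ : Over (Spec (CommRingCat.of k))} (act : AlgGrp.Action G P) (π : P ⟶ SGA7.pt (K := k) L)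
    (hinv : act.act ≫ π = snd G P ≫ π) (φ : P ⟶ X) (eqv : act.act ≫ φ = (G ◁ φ) ≫ aX.act)
    (K : IntermediateField k L) (act₀ : AlgGrp.Action G P₀) (π₀ : P₀ ⟶ SGA7.pt (K := k) K)
    (cart₀ : IsPullback act₀.act (snd G P₀) π₀ π₀)
    (loc₀ : NonAbH1.IsLocallyTrivialFor Scheme.fppfPrecoverage (Over.mk π₀.left : Over (SGA7.pt (K := k) K).left))
    (t : P ⟶ P₀) (heqv : act.act ≫ t = (G ◁ t) ≫ act₀.act)
    (htc : IsPullback t π π₀ (EssDim.resPt (K := K) (L := L) K.val)) :
    ∃ (M : IntermediateField k L) (hKM : K ≤ M),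
      ((Cardinal.toENat (Algebra.trdeg k M) : ℕ∞) : WithBot ℕ∞) ≤
        (Cardinal.toENat (Algebra.trdeg k K) : ℕ∞) + topologicalKrullDim (X.left : Type u) ∧
      ∀ (P₁ : Over (Spec (CommRingCat.of k))) (act₁ : AlgGrp.Action G P₁) (π₁ : P₁ ⟶ SGA7.pt (K := k) M)
        (_ : IsPullback act₁.act (snd G P₁) π₁ π₁) (u₁ : P₁ ⟶ P₀)
        (_ : IsPullback u₁ π₁ π₀ (EssDim.resPt (IntermediateField.inclusion hKM))) (t₁ : P ⟶ P₁)
        (_ : act.act ≫ t₁ = (G ◁ t₁) ≫ act₁.act)
        (_ : IsPullback t₁ π π₁ (EssDim.resPt (K := M) (L := L) M.val)) (_ : t₁ ≫ u₁ = t),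
        ∃ g : P₁ ⟶ X, t₁ ≫ g = φ := by
  classical
  let Ω := AlgebraicClosure L
  let eL : L →ₐ[k] Ω := IsScalarTower.toAlgHom k L Ω
  let eK : K →ₐ[k] Ω := eL.comp K.val
  let Kb : IntermediateField k Ω := (algebraicClosure K Ω).restrictScalars k
  haveI : IsAlgClosed Kb := IsAlgClosure.isAlgClosed K (K := algebraicClosure K Ω)
  have hKb : ∀ z : Ω, z ∈ Kb ↔ IsAlgebraic K z := fun z => mem_algebraicClosure_iff
  have heKb : ∀ c : K, eK c ∈ Kb := fun c => (hKb _).mpr (isAlgebraic_algebraMap (A := Ω) c)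
  let eKb : K →ₐ[k] Kb := eK.codRestrict Kb.toSubalgebra heKb
  -- a point of the torsor over the algebraic closure of `K`
  obtain ⟨pb, hpb⟩ : ∃ pb : SGA7.pt (K := k) Kb ⟶ P₀, pb ≫ π₀ = EssDim.resPt eKb := by
    obtain ⟨R, hR, hsec⟩ := loc₀
    obtain ⟨J, Z, g, rfl⟩ := R.exists_eq_ofArrows
    obtain ⟨hsurj, hfl⟩ := (Scheme.ofArrows_mem_precoverage_iff _).1 hR
    obtain ⟨i, z, hz⟩ := hsurj (IsLocalRing.closedPoint K)
    obtain ⟨s, hs⟩ := hsec (g i) ⟨i⟩
    have : LocallyOfFinitePresentation (g i) := (hfl i).2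
    let e : Spec (CommRingCat.of Kb) ⟶ (SGA7.pt (K := k) K).left := (EssDim.resPt eKb).left
    let b : pullback (g i) e ⟶ Spec (CommRingCat.of Kb) := pullback.snd (g i) e
    obtain ⟨w, -, -⟩ := Scheme.Pullback.exists_preimage_pullback (f := g i) (g := e) z
      (IsLocalRing.closedPoint Kb) (Subsingleton.elim (α := ↥(Spec (CommRingCat.of K))) _ _)
    have : LocallyOfFiniteType b := inferInstanceAs (LocallyOfFiniteType (pullback.snd (g i) e))
    have : JacobsonSpace ↥(pullback (g i) e) := LocallyOfFiniteType.jacobsonSpace b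
    obtain ⟨v, -, hv⟩ := nonempty_inter_closedPoints (X := ↥(pullback (g i) e)) (Z := Set.univ)
      ⟨w, trivial⟩ isClosed_univ.isLocallyClosed
    let q := pointOfClosedPoint b v hv ≫ pullback.fst (g i) e ≫ s
    have hq : q ≫ π₀.left = e := by
      simp only [q, Category.assoc]
      rw [show s ≫ π₀.left = g i from hs, pullback.condition, ← Category.assoc (pointOfClosedPoint b v hv),
        pointOfClosedPoint_comp, Category.id_comp]
    refine ⟨Over.homMk q ?_, Over.OverMorphism.ext hq⟩
    rw [← Over.w π₀, ← Category.assoc, hq]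
    exact Over.w (EssDim.resPt eKb)
  let p : SGA7.pt (K := k) Ω ⟶ P₀ := EssDim.resPt Kb.val ≫ pb
  have hp : p ≫ π₀ = EssDim.resPt eK := by
    simp only [p, Category.assoc, hpb]
    exact resPt_comp' _ _ _ fun _ => rfl
  let pP : SGA7.pt (K := k) Ω ⟶ P := htc.lift p (EssDim.resPt eL) (by
    rw [hp]; exact (resPt_comp' _ _ _ fun _ => rfl).symm)
  let y : SGA7.pt (K := k) Ω ⟶ X := pP ≫ φ
  -- the residue field of the image point
  obtain ⟨⟨x, ρ⟩, hxρ⟩ := (Scheme.SpecToEquivOfField Ω X.left).symm.surjective y.left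
  replace hxρ : Spec.map ρ ≫ X.left.fromSpecResidueField x = y.left := hxρ
  let : Algebra k (X.left.residueField x) := (Groth.Variety2.Dim.resHom X.hom x).toAlgebra
  have hρk : ∀ c : k, ρ.hom (algebraMap k (X.left.residueField x) c) = algebraMap k Ω c := by
    have h1 : CommRingCat.ofHom (Groth.Variety2.Dim.resHom X.hom x) ≫ ρ =
        CommRingCat.ofHom (algebraMap k Ω) := by
      apply Spec.map_injective
      rw [Spec.map_comp, Groth.Variety2.Dim.resHom_spec, ← Category.assoc, hxρ]
      exact Over.w y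
    exact fun c => congrArg (fun f => f.hom c) h1
  let ρa : X.left.residueField x →ₐ[k] Ω := { ρ.hom with commutes' := hρk }
  obtain ⟨s, hs⟩ := exists_isTranscendenceBasis k (X.left.residueField x)
  let E := IntermediateField.adjoin K (ρa '' s)
  haveI : IsScalarTower k E Ω := IsScalarTower.of_algebraMap_eq fun _ => rfl
  let N₁ : IntermediateField k Ω := (algebraicClosure E Ω).restrictScalars k
  haveI : IsAlgClosed N₁ := IsAlgClosure.isAlgClosed E (K := algebraicClosure E Ω)
  have hN₁ : ∀ z : Ω, z ∈ N₁ ↔ IsAlgebraic E z := fun z => mem_algebraicClosure_iff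
  have hEN : ∀ z ∈ E, z ∈ N₁ := fun z hz =>
    (hN₁ z).mpr (isAlgebraic_algebraMap (A := Ω) (⟨z, hz⟩ : E))
  have hKN : ∀ c : K, eK c ∈ N₁ := fun c => hEN _ (E.algebraMap_mem c)
  have hKbN : Kb ≤ N₁ := fun z hz => (hN₁ z).mpr (((hKb z).mp hz).tower_top E)
  have hρN : ∀ z, ρa z ∈ N₁ := by
    intro z
    refine mem_of_isAlgebraic N₁ ?_
    have hle : Algebra.adjoin k (Set.range ((↑) : s → X.left.residueField x)) ≤
        N₁.toSubalgebra.comap ρa := by
      rw [Algebra.adjoin_le_iff]
      rintro _ ⟨⟨a, ha⟩, rfl⟩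
      exact hEN _ (IntermediateField.subset_adjoin K _ ⟨a, ha, rfl⟩)
    let j : Algebra.adjoin k (Set.range ((↑) : s → X.left.residueField x)) →+* N₁ :=
      (((ρa.comp (Algebra.adjoin k (Set.range ((↑) : s → X.left.residueField x))).val).codRestrict
        N₁.toSubalgebra fun a => hle a.2) : _ →ₐ[k] N₁.toSubalgebra).toRingHom
    have := (hs.isAlgebraic).isAlgebraic z
    exact this.ringHom_of_comp_eq j ρa.toRingHom
      (fun a b hab => Subtype.ext (ρa.toRingHom.injective (congrArg Subtype.val hab))) rfl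
  haveI : IsScalarTower k K (algebraicClosure E Ω) :=
    IsScalarTower.of_algebraMap_eq fun _ => rfl
  let M : IntermediateField k L := N₁.comap eL
  have hKM : K ≤ M := fun c hc => hKN ⟨c, hc⟩
  have htrdeg : ((Cardinal.toENat (Algebra.trdeg k M) : ℕ∞) : WithBot ℕ∞) ≤
        (Cardinal.toENat (Algebra.trdeg k K) : ℕ∞) + topologicalKrullDim (X.left : Type u) := by
    obtain ⟨n, hn, hh⟩ := Groth.Variety2.Dim.exists_trdegAt_eq_height X.hom x
    have h3 : ((n : ℕ∞) : WithBot ℕ∞) ≤ topologicalKrullDim (X.left : Type u) := by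
      have h4 : Order.krullDim ↥X.left = topologicalKrullDim ↥X.left :=
        Order.krullDim_eq_of_orderIso (irreducibleSetEquivPoints (α := ↥X.left)).symm
      rw [← hh, ← h4]
      exact Order.height_le_krullDim x
    refine le_trans ?_ (add_le_add le_rfl h3)
    rw [← WithBot.coe_add, WithBot.coe_le_coe]
    have h5 : Algebra.trdeg k M ≤ Algebra.trdeg k K + (n : Cardinal) := by
      let j : M →ₐ[k] algebraicClosure E Ω :=
        { toRingHom := ((eL.comp M.val).toRingHom).codRestrict (algebraicClosure E Ω) fun z => z.2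
          commutes' := fun c => Subtype.ext (eL.commutes c) }
      refine (trdeg_le_of_injective j j.toRingHom.injective).trans ?_
      rw [← trdeg_add_eq k K (A := algebraicClosure E Ω)]
      refine add_le_add le_rfl ?_
      rw [← trdeg_add_eq K E (A := algebraicClosure E Ω), trdeg_eq_zero (R := E), add_zero]
      let s' : Set E := Set.range fun a : s => (⟨ρa a, IntermediateField.subset_adjoin K _ ⟨a, a.2, rfl⟩⟩ : E)
      have : Algebra.IsAlgebraic (Algebra.adjoin K s') E := by
        have himg : E.val '' s' = ρa '' s := by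
          ext z
          simp [s']
          rintro a ha rfl
          exact IntermediateField.subset_adjoin K _ ⟨a, ha, rfl⟩
        have hmap : (IntermediateField.adjoin K s').map E.val = E := by
          rw [IntermediateField.adjoin_map, himg]
        have htop : IntermediateField.adjoin K s' = ⊤ :=
          IntermediateField.map_injective E.val (hmap.trans (by ext z; simp))
        refine ⟨fun z => ?_⟩
        have hz : z ∈ IntermediateField.adjoin K s' := htop ▸ IntermediateField.mem_top
        open scoped IntermediateField.algebraAdjoinAdjoin in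
        have := Algebra.IsAlgebraic.isAlgebraic (R := Algebra.adjoin K s')
          (A := IntermediateField.adjoin K s') ⟨z, hz⟩
        exact this.algHom (IsScalarTower.toAlgHom (Algebra.adjoin K s') _ E)
      refine (Algebra.IsAlgebraic.trdeg_le_cardinalMk K s').trans ((Cardinal.mk_range_le).trans (le_of_eq ?_))
      rw [hs.cardinalMk_eq_trdeg]
      exact hn
    refine (OrderHomClass.mono Cardinal.toENat h5).trans (le_of_eq ?_)
    rw [map_add, map_natCast]
  refine ⟨M, hKM, htrdeg, ?_⟩
  intro P₁ act₁ π₁ cart₁ u₁ hu₁ t₁ heqv₁ ht₁ htu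
  let eM : M →ₐ[k] Ω := eL.comp M.val
  let iK : K →ₐ[k] M := IntermediateField.inclusion hKM
  let N := algebraicClosure M Ω
  let N' : IntermediateField k Ω := N.restrictScalars k
  -- conjugates of the residue field
  have hconj : ∀ (σ : Ω →ₐ[L] Ω) (z : X.left.residueField x), σ (ρa z) ∈ N₁ := by
    intro σ
    let σk : Ω →ₐ[k] Ω := σ.restrictScalars k
    have hσKb : ∀ z : Kb, σk z ∈ Kb := fun z => (hKb _).mpr
      (((hKb _).mp z.2).algHom (σ.restrictScalars K))
    let σb : Kb →ₐ[k] Kb := (σk.comp Kb.val).codRestrict Kb.toSubalgebra hσKb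
    let iN : Kb →ₐ[k] N₁ := IntermediateField.inclusion hKbN
    let iρ : X.left.residueField x →ₐ[k] N₁ := ρa.codRestrict N₁.toSubalgebra hρN
    let yN : SGA7.pt (K := k) N₁ ⟶ X := Over.homMk
      (Spec.map (CommRingCat.ofHom iρ.toRingHom) ≫ X.left.fromSpecResidueField x) (by
        rw [Category.assoc, ← Groth.Variety2.Dim.resHom_spec]
        show _ = Spec.map _
        rw [← Spec.map_comp]
        congr 1
        exact CommRingCat.hom_ext (RingHom.ext fun c => iρ.commutes c))
    have hyN : EssDim.resPt N₁.val ≫ yN = y := by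
      apply Over.OverMorphism.ext
      simp only [Over.comp_left, EssDim.resPt_left, yN, Over.homMk_left]
      rw [← hxρ, ← Category.assoc, ← Spec.map_comp]
      rfl
    let pN : SGA7.pt (K := k) N₁ ⟶ P₀ := EssDim.resPt iN ≫ pb
    let pN' : SGA7.pt (K := k) N₁ ⟶ P₀ := EssDim.resPt (iN.comp σb) ≫ pb
    have hpN : EssDim.resPt N₁.val ≫ pN = p := by
      simp only [pN, p, ← Category.assoc]
      rw [resPt_comp' iN N₁.val Kb.val fun _ => rfl]
    have hpN' : EssDim.resPt N₁.val ≫ pN' = EssDim.resPt σk ≫ p := by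
      simp only [pN', p, ← Category.assoc]
      rw [resPt_comp' (iN.comp σb) N₁.val (σk.comp Kb.val) fun _ => rfl,
        resPt_comp' Kb.val σk (σk.comp Kb.val) fun _ => rfl]
    let w := cart₀.lift pN' pN (by
      simp only [pN, pN', Category.assoc, hpb]
      rw [resPt_comp' eKb (iN.comp σb) (iN.comp eKb) fun c => Subtype.ext (σ.commutes (c : L)),
        resPt_comp' eKb iN (iN.comp eKb) fun _ => rfl])
    let gN := w ≫ fst G P₀
    have hw : w = lift gN pN := by
      apply CartesianMonoidalCategory.hom_ext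
      · rw [lift_fst]
      · rw [lift_snd]; exact cart₀.lift_snd _ _ _
    have hgact : lift gN pN ≫ act₀.act = pN' := by rw [← hw]; exact cart₀.lift_fst _ _ _
    let gΩ := EssDim.resPt N₁.val ≫ gN
    have hσP : EssDim.resPt σk ≫ pP = lift gΩ pP ≫ act.act := by
      apply htc.hom_ext
      · rw [Category.assoc, htc.lift_fst, Category.assoc, heqv, lift_whiskerLeft_assoc, htc.lift_fst,
          show lift gΩ p = EssDim.resPt N₁.val ≫ lift gN pN by rw [comp_lift, hpN], Category.assoc,
          hgact, hpN']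
      · rw [Category.assoc, htc.lift_snd, Category.assoc, hinv, lift_snd_assoc, htc.lift_snd]
        exact resPt_comp' _ _ _ fun z => σ.commutes z
    let yN' : SGA7.pt (K := k) N₁ ⟶ X := lift gN yN ≫ aX.act
    have hσy : EssDim.resPt N₁.val ≫ yN' = EssDim.resPt σk ≫ y := by
      simp only [y]
      rw [← Category.assoc (EssDim.resPt σk), hσP, Category.assoc, eqv, lift_whiskerLeft_assoc]
      simp only [yN', ← Category.assoc, comp_lift, hyN]
      rfl
    obtain ⟨ρ', hρ'⟩ := range_le_of_factor (x := x) (σk.toRingHom.comp ρ.hom) N₁.val.toRingHom yN'.left (by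
      rw [CommRingCat.ofHom_comp, Spec.map_comp, Category.assoc, CommRingCat.ofHom_hom, hxρ]
      exact (congrArg CommaMorphism.left hσy).symm)
    intro z
    rw [show σ (ρa z) = N₁.val (ρ' z) from (RingHom.congr_fun hρ' z).symm]
    exact (ρ' z).2
  have hρM : ∀ z, ρa z ∈ N' := by
    intro z
    show ρa z ∈ N
    rw [mem_algebraicClosure_iff]
    have hint : IsIntegral L (ρa z) := Algebra.IsIntegral.isIntegral _
    have hmem : ∀ n, (minpoly L (ρa z)).coeff n ∈ M := by
      intro n
      show eL _ ∈ N₁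
      have := coeff_mem_of_roots_mem (F := N₁.toSubfield) ((minpoly.monic hint).map (algebraMap L Ω))
        (fun r hr => ?_) n
      · rw [Polynomial.coeff_map] at this; exact this
      · have hr' : r ∈ (minpoly L (ρa z)).rootSet Ω := by
          rw [Polynomial.mem_rootSet_of_ne (minpoly.ne_zero hint), ← Polynomial.eval_map_algebraMap]
          exact (Polynomial.mem_roots'.mp hr).2
        rw [← Algebra.IsAlgebraic.range_eval_eq_rootSet_minpoly] at hr'
        obtain ⟨σ, rfl⟩ := hr'
        exact hconj σ z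
    obtain ⟨g, hg, -, hgm⟩ := Polynomial.lifts_and_degree_eq_and_monic
      ((Polynomial.lifts_iff_coeff_lifts (f := algebraMap M L) _).mpr fun n => ⟨⟨_, hmem n⟩, rfl⟩)
      (minpoly.monic hint)
    refine ⟨g, hgm.ne_zero, ?_⟩
    exact (Polynomial.aeval_map_algebraMap L (ρa z) g).symm.trans
      ((congrArg (Polynomial.aeval (ρa z)) hg).trans (minpoly.aeval L _))
  have hKbM : Kb ≤ N' := by
    intro z hz
    show z ∈ N
    rw [mem_algebraicClosure_iff]
    exact ((hKb z).mp hz).ringHom_of_comp_eq iK.toRingHom (RingHom.id Ω) iK.toRingHom.injective rfl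
  -- the ingredients over `N`
  have hMN : ∀ m : M, eM m ∈ N' := fun m => N.algebraMap_mem m
  let iM : M →ₐ[k] N' := eM.codRestrict N'.toSubalgebra hMN
  let iρ : X.left.residueField x →ₐ[k] N' := ρa.codRestrict N'.toSubalgebra hρM
  let yN : SGA7.pt (K := k) N' ⟶ X := Over.homMk
    (Spec.map (CommRingCat.ofHom iρ.toRingHom) ≫ X.left.fromSpecResidueField x) (by
      rw [Category.assoc, ← Groth.Variety2.Dim.resHom_spec]
      show _ = Spec.map _
      rw [← Spec.map_comp]
      congr 1
      exact CommRingCat.hom_ext (RingHom.ext fun c => iρ.commutes c))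
  have hyN : EssDim.resPt N'.val ≫ yN = y := by
    apply Over.OverMorphism.ext
    simp only [Over.comp_left, EssDim.resPt_left, yN, Over.homMk_left]
    rw [← hxρ, ← Category.assoc, ← Spec.map_comp]
    rfl
  let iKb : Kb →ₐ[k] N' := IntermediateField.inclusion hKbM
  let p₁ : SGA7.pt (K := k) N' ⟶ P₁ := hu₁.lift (EssDim.resPt iKb ≫ pb) (EssDim.resPt iM) (by
    rw [Category.assoc, hpb, resPt_comp' eKb iKb (iM.comp iK) fun _ => rfl,
      resPt_comp' iK iM (iM.comp iK) fun _ => rfl])
  have hp₁ : EssDim.resPt N'.val ≫ p₁ = pP ≫ t₁ := by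
    apply hu₁.hom_ext
    · rw [Category.assoc, hu₁.lift_fst, Category.assoc, htu, htc.lift_fst, ← Category.assoc,
        resPt_comp' iKb N'.val Kb.val fun _ => rfl]
    · rw [Category.assoc, hu₁.lift_snd, Category.assoc, ht₁.w, ← Category.assoc, htc.lift_snd,
        resPt_comp' iM N'.val eM fun _ => rfl, resPt_comp' M.val eL eM fun _ => rfl]
  let qN := pullback.fst π₁ (EssDim.resPt iM)
  let pN := pullback.snd π₁ (EssDim.resPt iM)
  let w := cart₁.lift qN (pN ≫ p₁) (by
    rw [Category.assoc, hu₁.lift_snd]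
    exact pullback.condition)
  let gN := w ≫ fst G P₁
  have hgact : lift gN (pN ≫ p₁) ≫ act₁.act = qN := by
    rw [show lift gN (pN ≫ p₁) = w from CartesianMonoidalCategory.hom_ext _ _
      (by rw [lift_fst]) (by rw [lift_snd]; exact (cart₁.lift_snd _ _ _).symm)]
    exact cart₁.lift_fst _ _ _
  let fN : pullback π₁ (EssDim.resPt iM) ⟶ X := lift gN (pN ≫ yN) ≫ aX.act
  let qΩ := pullback.fst π₁ (EssDim.resPt eM)
  let pΩ := pullback.snd π₁ (EssDim.resPt eM)
  let rL : pullback π₁ (EssDim.resPt eM) ⟶ P := ht₁.lift qΩ (pΩ ≫ EssDim.resPt eL) (by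
    rw [Category.assoc, resPt_comp' M.val eL eM fun _ => rfl]
    exact pullback.condition)
  let rN : pullback π₁ (EssDim.resPt eM) ⟶ pullback π₁ (EssDim.resPt iM) :=
    pullback.lift qΩ (pΩ ≫ EssDim.resPt N'.val) (by
      rw [Category.assoc, resPt_comp' iM N'.val eM fun _ => rfl]
      exact pullback.condition)
  have hrL : rL = lift (rN ≫ gN) (pΩ ≫ pP) ≫ act.act := by
    apply ht₁.hom_ext
    · rw [ht₁.lift_fst, Category.assoc, heqv₁, lift_whiskerLeft_assoc, Category.assoc, ← hp₁]
      rw [← Category.assoc pΩ, show pΩ ≫ EssDim.resPt N'.val = rN ≫ pN from (pullback.lift_snd _ _ _).symm,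
        Category.assoc, ← comp_lift, Category.assoc, hgact]
      exact (pullback.lift_fst _ _ _).symm
    · rw [ht₁.lift_snd, Category.assoc, hinv, lift_snd_assoc, Category.assoc, htc.lift_snd]
  have hagree : rL ≫ φ = rN ≫ fN := by
    rw [hrL, Category.assoc, eqv, lift_whiskerLeft_assoc, Category.assoc]
    show lift (rN ≫ gN) (pΩ ≫ y) ≫ aX.act = _
    rw [← hyN, ← Category.assoc pΩ,
      show pΩ ≫ EssDim.resPt N'.val = rN ≫ pN from (pullback.lift_snd _ _ _).symm,
      Category.assoc, ← comp_lift, Category.assoc]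
  -- descend
  let F := Over.forget (Spec (CommRingCat.of k))
  let LΩ : IntermediateField M Ω := (IsScalarTower.toAlgHom M L Ω).fieldRange
  obtain ⟨g, hg⟩ := exists_descend (M := M) (IsScalarTower.toAlgHom M L Ω) N.val
    (fun l n h => by
      have h1 : IsAlgebraic M (eL l) := by
        rw [show eL l = N.val n from h]
        exact mem_algebraicClosure_iff.mp n.2
      have h2 : l ∈ M := mem_of_isAlgebraic N₁ (h1.ringHom_of_comp_eq
        (eM.codRestrict N₁.toSubalgebra fun m => m.2).toRingHom (RingHom.id Ω)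
        (RingHom.injective _) rfl)
      exact ⟨⟨l, h2⟩, rfl⟩)
    (fun Ω' _ _ _ a b => by
      have : Algebra.IsAlgebraic LΩ Ω := by
        refine ⟨fun z => ?_⟩
        exact (Algebra.IsAlgebraic.isAlgebraic (R := L) z).ringHom_of_comp_eq
          (IsScalarTower.toAlgHom M L Ω).rangeRestrict.toRingHom (RingHom.id Ω)
          (fun a b h => (algebraMap L Ω).injective (congrArg Subtype.val h)) rfl
      let e : L ≃ₐ[M] LΩ := AlgEquiv.ofInjectiveField _
      obtain ⟨c, hc1, hc2⟩ := exists_extend LΩ (fun z hz halg => by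
        obtain ⟨l, rfl⟩ := hz
        have h2 : l ∈ M := mem_of_isAlgebraic N₁ (halg.ringHom_of_comp_eq
          (eM.codRestrict N₁.toSubalgebra fun m => m.2).toRingHom (RingHom.id Ω)
          (RingHom.injective _) rfl)
        exact IntermediateField.mem_bot.mpr ⟨⟨l, h2⟩, rfl⟩) (a.comp e.symm.toAlgHom) b
      refine ⟨c, fun l => ?_, hc2⟩
      exact (hc1 (e l)).trans (congrArg a (e.symm_apply_apply l)))
    (X := X.left)
    (qL := t₁.left) (pL := π.left) (π := π₁.left)
    (ht₁.map F)
    (qN := qN.left) (pN := pN.left)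
    ((IsPullback.of_hasPullback π₁ (EssDim.resPt iM)).map F)
    (qΩ := qΩ.left) (pΩ := pΩ.left)
    ((IsPullback.of_hasPullback π₁ (EssDim.resPt eM)).map F)
    (rL := rL.left) (congrArg CommaMorphism.left (ht₁.lift_fst _ _ _))
    (congrArg CommaMorphism.left (ht₁.lift_snd _ _ _))
    (rN := rN.left) (congrArg CommaMorphism.left (show rN ≫ qN = qΩ from pullback.lift_fst _ _ _))
    (congrArg CommaMorphism.left
      (show rN ≫ pN = pΩ ≫ EssDim.resPt N'.val from pullback.lift_snd _ _ _))
    φ.left fN.left (congrArg CommaMorphism.left hagree)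
  have : Flat (Spec.map (CommRingCat.ofHom (algebraMap M L))) :=
    (HasRingHomProperty.Spec_iff (P := @Flat)).mpr (RingHom.flat_algebraMap_iff.mpr (inferInstanceAs (Module.Flat M L)))
  have : Surjective (Spec.map (CommRingCat.ofHom (algebraMap M L))) :=
    ⟨fun z => ⟨IsLocalRing.closedPoint L, Subsingleton.elim (α := ↥(Spec (CommRingCat.of M))) _ _⟩⟩
  have hb : IsPullback t₁.left π.left π₁.left (Spec.map (CommRingCat.ofHom (algebraMap M L))) := ht₁.map F
  have : Flat t₁.left := MorphismProperty.of_isPullback hb.flip inferInstance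
  have : Surjective t₁.left := MorphismProperty.of_isPullback hb.flip inferInstance
  have : QuasiCompact (Spec.map (CommRingCat.ofHom (algebraMap M L))) :=
    inferInstanceAs (QuasiCompact (Spec.map (CommRingCat.ofHom (M.val : M →+* L))))
  have : QuasiCompact t₁.left := MorphismProperty.of_isPullback hb.flip inferInstance
  exact ⟨Over.homMk g (by
    rw [← cancel_epi t₁.left, reassoc_of% hg, Over.w φ, Over.w t₁]), Over.OverMorphism.ext hg⟩

end Groth.EssDimQuot
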